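import Mathlib
import Groth.Agent.Lib.Helper7.AlgTriv.Main
import Groth.Agent.Lib.Helper7.GenBC.H0Iso
import Groth.Agent.Lib.Helper9.FppfCov
import Groth.Agent.Lib.Helper1.PullGen2
import Groth.Agent.Lib.Helper1.FPA8

/-!
# The degree function on the Picard scheme of a family of curves (helper7)

The degree of an invertible module on the fibres of a flat proper family of curves is the
difference of two Euler characteristics of the fibres, so it is locally constant on the base and
invariant under base change.  A point of a scheme representing the sheafified Picard functor is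
represented, locally for the flat topology, by an invertible module; the degree of the representing
module does not depend on the choices and gives a locally constant function on the representing
scheme.
-/

set_option linter.style.haveILetI false
set_option linter.unusedVariables false
set_option linter.unusedSectionVars false
set_option autoImplicit false
set_option backward.isDefEq.respectTransparency.types false
set_option backward.isDefEq.respectTransparency false
set_option synthInstance.maxHeartbeats 400000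
set_option maxHeartbeats 1600000

universe u

open CategoryTheory CategoryTheory.Limits AlgebraicGeometry

namespace Groth.Agent.Helper7.AlgTriv

section Deg

variable {XT T₀ : Scheme.{u}} (p : XT ⟶ T₀)

/-- the degree of a module on the fibre over a field valued point: the difference of the Euler
characteristics, in degrees at most one, of the module and of the structure sheaf -/
noncomputable def degK (L : XT.Modules) (K : Type u) [Field K]
    (b : Spec (CommRingCat.of K) ⟶ T₀) : ℤ :=
  @FGA.eulerCharLE K _ (pullback p b) ⟨pullback.snd p b⟩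
      ((Scheme.Modules.pullback (pullback.fst p b)).obj L) 1 -
    @FGA.eulerCharLE K _ (pullback p b) ⟨pullback.snd p b⟩
      (Coh.structureModule (pullback p b)) 1

/-- the degree only depends on the isomorphism class -/
theorem degK_congr {L L' : XT.Modules} (e : L ≅ L') (K : Type u) [Field K]
    (b : Spec (CommRingCat.of K) ⟶ T₀) : degK p L K b = degK p L' K b := by
  letI oY : (pullback p b).Over (Spec (CommRingCat.of K)) := ⟨pullback.snd p b⟩
  show FGA.eulerCharLE K (pullback p b) ((Scheme.Modules.pullback (pullback.fst p b)).obj L) 1 -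
      FGA.eulerCharLE K (pullback p b) (Coh.structureModule (pullback p b)) 1 =
    FGA.eulerCharLE K (pullback p b) ((Scheme.Modules.pullback (pullback.fst p b)).obj L') 1 -
      FGA.eulerCharLE K (pullback p b) (Coh.structureModule (pullback p b)) 1
  rw [eulerCharLE_congr K (pullback p b)
    ((Scheme.Modules.pullback (pullback.fst p b)).mapIso e) 1]

/-- the degree over a field valued point is the difference of the Euler characteristics of the
fibres -/
theorem degK_eq [IsProper p] (L : XT.Modules) [L.IsQuasicoherent] (K : Type u) [Field K]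
    (b : Spec (CommRingCat.of K) ⟶ T₀) (pt : Spec (CommRingCat.of K)) (t : T₀)
    (hpt : b pt = t) (hd : topologicalKrullDim ↥(p.fiber t) ≤ 1) :
    degK p L K b =
      PerfAux.eulerChar p L t - PerfAux.eulerChar p (Coh.structureModule XT) t := by
  subst hpt
  letI oY : (pullback p b).Over (Spec (CommRingCat.of K)) := ⟨pullback.snd p b⟩
  haveI : IsProper ((pullback p b) ↘ Spec (CommRingCat.of K)) :=
    (inferInstance : IsProper (pullback.snd p b))
  have hd' : topologicalKrullDim
      ↥(((pullback p b) ↘ Spec (CommRingCat.of K)).fiber pt) ≤ 1 := by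
    show topologicalKrullDim ↥((pullback.snd p b).fiber pt) ≤ 1
    rw [Groth.Agent.Lib.Helper4.FibDimBC1.S9777_main p b (pullback.snd p b)
      (pullback.fst p b) (IsPullback.of_hasPullback p b) pt]
    exact hd
  haveI : ((Scheme.Modules.pullback (pullback.fst p b)).obj L).IsQuasicoherent :=
    Groth.Agent.Lead.PB.isQuasicoherent_pullback _ _
  haveI : ((Scheme.Modules.pullback (pullback.fst p b)).obj
      (Coh.structureModule XT)).IsQuasicoherent :=
    Groth.Agent.Lead.PB.isQuasicoherent_pullback _ _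
  have h1 : FGA.eulerCharLE K (pullback p b)
      ((Scheme.Modules.pullback (pullback.fst p b)).obj L) 1 = PerfAux.eulerChar p L (b pt) := by
    rw [eulerCharLE_eq_eulerChar K (pullback p b) _ pt hd']
    exact Groth.Agent.Helper7.Betti.eulerChar_baseChange p b (pullback.fst p b)
      (pullback.snd p b) (IsPullback.of_hasPullback p b) L pt
  have h2 : FGA.eulerCharLE K (pullback p b) (Coh.structureModule (pullback p b)) 1 =
      PerfAux.eulerChar p (Coh.structureModule XT) (b pt) := by
    rw [← eulerCharLE_congr K (pullback p b)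
      (Groth.Agent.Helper1.QcPullGen.pullbackUnitIso (pullback.fst p b)) 1,
      eulerCharLE_eq_eulerChar K (pullback p b) _ pt hd']
    exact Groth.Agent.Helper7.Betti.eulerChar_baseChange p b (pullback.fst p b)
      (pullback.snd p b) (IsPullback.of_hasPullback p b) (Coh.structureModule XT) pt
  show FGA.eulerCharLE K (pullback p b) ((Scheme.Modules.pullback (pullback.fst p b)).obj L) 1 -
      FGA.eulerCharLE K (pullback p b) (Coh.structureModule (pullback p b)) 1 = _
  rw [h1, h2]

/-- the degree of a module on the fibre at a point -/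
noncomputable def degAt (L : XT.Modules) (t : T₀) : ℤ :=
  degK p L (T₀.residueField t) (T₀.fromSpecResidueField t)

/-- the degree only depends on the isomorphism class -/
theorem degAt_congr {L L' : XT.Modules} (e : L ≅ L') (t : T₀) : degAt p L t = degAt p L' t :=
  degK_congr p e _ _

/-- the degree is the difference of the Euler characteristics of the fibres -/
theorem degAt_eq [IsProper p] (L : XT.Modules) [L.IsQuasicoherent] (t : T₀)
    (hd : topologicalKrullDim ↥(p.fiber t) ≤ 1) :
    degAt p L t =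
      PerfAux.eulerChar p L t - PerfAux.eulerChar p (Coh.structureModule XT) t := by
  obtain ⟨pt⟩ : Nonempty (Spec (CommRingCat.of (T₀.residueField t))) :=
    ⟨(⟨⊥, Ideal.isPrime_bot⟩ : PrimeSpectrum (T₀.residueField t))⟩
  exact degK_eq p L (T₀.residueField t) (T₀.fromSpecResidueField t) pt t
    (Scheme.fromSpecResidueField_apply t pt) hd

/-- the degree is invariant under base change -/
theorem degAt_baseChange [IsProper p] {XT' T₁ : Scheme.{u}} (p' : XT' ⟶ T₁) [IsProper p']
    (g : T₁ ⟶ T₀) (g' : XT' ⟶ XT) (h : IsPullback g' p' p g) (L : XT.Modules)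
    [L.IsQuasicoherent] (t₁ : T₁) (hd : topologicalKrullDim ↥(p.fiber (g t₁)) ≤ 1) :
    degAt p' ((Scheme.Modules.pullback g').obj L) t₁ = degAt p L (g t₁) := by
  haveI : ((Scheme.Modules.pullback g').obj L).IsQuasicoherent :=
    Groth.Agent.Lead.PB.isQuasicoherent_pullback _ _
  have hd' : topologicalKrullDim ↥(p'.fiber t₁) ≤ 1 := by
    rw [Groth.Agent.Lib.Helper4.FibDimBC1.S9777_main p g p' g' h t₁]
    exact hd
  rw [degAt_eq p' _ t₁ hd', degAt_eq p L (g t₁) hd,
    Groth.Agent.Helper7.Betti.eulerChar_baseChange p g g' p' h L t₁,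
    ← Groth.Agent.Helper7.Betti.eulerChar_congr p'
      (Groth.Agent.Helper1.QcPullGen.pullbackUnitIso g') t₁,
    Groth.Agent.Helper7.Betti.eulerChar_baseChange p g g' p' h (Coh.structureModule XT) t₁]

/-- the degree of an invertible module on the fibres of a flat proper family of curves is locally
constant -/
theorem isLocallyConstant_degAt [IsProper p] [Flat p] [LocallyOfFinitePresentation p]
    (hdim : ∀ x : T₀, topologicalKrullDim ↥(p.fiber x) ≤ 1) (L : XT.Modules)
    (hL : PicF.IsInvertible L) : IsLocallyConstant (fun t : T₀ => degAt p L t) := by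
  have hL' : FlatMod.IsFinLocFree L :=
    Groth.Agent.Helper1.InvInv2.isFinLocFree_of_isInvertible hL
  haveI hLq : L.IsQuasicoherent := Groth.Agent.Lead.FLF.isQuasicoherent_of_isFinLocFree L hL'
  have hfp : CohB1.IsFP L := Groth.Agent.Lead.Punc.isFP_of_isFinLocFree L hL'
  have hfl : FlatMod.IsFlatOver p L :=
    Groth.Agent.Lib.Helper5.LpullLib.isFlatOver_of_isFinLocFree p L hL'
  have h1 := Groth.Agent.Helper7.Betti.isLocallyConstant_eulerChar p L hfp hfl
  have h2 := Groth.Agent.Helper7.Betti.isLocallyConstant_eulerChar p (Coh.structureModule XT)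
    (Groth.Agent.Helper1.FPA.isFP_unit XT)
    (Groth.Agent.Helper7.GenBC.h0_isFlatOver_structureModule p)
  have heq : (fun t : T₀ => degAt p L t) = fun t =>
      PerfAux.eulerChar p L t - PerfAux.eulerChar p (Coh.structureModule XT) t :=
    funext fun t => degAt_eq p L t (hdim t)
  rw [heq]
  exact h1.sub h2

end Deg

section Pic

variable {C S : Scheme.{u}} (f : C ⟶ S)

/-- the square of the base change of `C` along a morphism of `S`-schemes is cartesian -/
theorem isPullback_XTmap {T T' : Over S} (g : T' ⟶ T) :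
    IsPullback (PicF.XTmap f g) (PicF.XTproj f T') (PicF.XTproj f T) g.left := by
  have hfst : PicF.XTmap f g ≫ pullback.fst f T.hom = pullback.fst f T'.hom := by
    simp only [PicF.XTmap, pullback.map, pullback.lift_fst, Category.comp_id]
  have hsnd : PicF.XTmap f g ≫ pullback.snd f T.hom = pullback.snd f T'.hom ≫ g.left := by
    simp only [PicF.XTmap, pullback.map, pullback.lift_snd]
  refine IsPullback.of_right ?_ hsnd (IsPullback.of_hasPullback f T.hom)
  rw [hfst, Over.w g]
  exact IsPullback.of_hasPullback f T'.hom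

/-- modules with the same class are isomorphic -/
theorem nonempty_iso_of_cl_eq {Y : Scheme.{u}} {L L' : Y.Modules}
    (h : PicF.cl L = PicF.cl L') : Nonempty (L ≅ L') := by
  have h1 := Quot.eqvGen_exact h
  have heq : Equivalence (fun L L' : Y.Modules => Nonempty (L ≅ L')) :=
    ⟨fun L => ⟨Iso.refl L⟩, fun ⟨e⟩ => ⟨e.symm⟩, fun ⟨e⟩ ⟨e'⟩ => ⟨e ≪≫ e'⟩⟩
  exact heq.eqvGen_iff.1 h1

variable [IsProper f] [Flat f] [LocallyOfFinitePresentation f]

instance instIsProperXTproj (T : Over S) : IsProper (PicF.XTproj f T) :=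
  (inferInstance : IsProper (pullback.snd f T.hom))

instance instFlatXTproj (T : Over S) : Flat (PicF.XTproj f T) :=
  (inferInstance : Flat (pullback.snd f T.hom))

instance instLfpXTproj (T : Over S) : LocallyOfFinitePresentation (PicF.XTproj f T) :=
  (inferInstance : LocallyOfFinitePresentation (pullback.snd f T.hom))

/-- the fibres of a base change of a family of curves are curves -/
theorem dim_fiber_XTproj (hdim : ∀ s : S, topologicalKrullDim ↥(f.fiber s) = 1) (T : Over S)
    (x : T.left) : topologicalKrullDim ↥((PicF.XTproj f T).fiber x) ≤ 1 := by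
  rw [Groth.Agent.Lib.Helper4.FibDimBC1.S9777_main f T.hom (pullback.snd f T.hom)
    (pullback.fst f T.hom) (IsPullback.of_hasPullback f T.hom) x, hdim]

/-- the degree is invariant under base change along a morphism of `S`-schemes -/
theorem degAt_XTmap (hdim : ∀ s : S, topologicalKrullDim ↥(f.fiber s) = 1) {T T' : Over S}
    (g : T' ⟶ T) (L : (PicF.XT f T).Modules) [L.IsQuasicoherent] (t' : T'.left) :
    degAt (PicF.XTproj f T') ((Scheme.Modules.pullback (PicF.XTmap f g)).obj L) t' =
      degAt (PicF.XTproj f T) L (g.left t') :=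
  degAt_baseChange (PicF.XTproj f T) (PicF.XTproj f T') g.left (PicF.XTmap f g)
    (isPullback_XTmap f g) L t' (dim_fiber_XTproj f hdim T _)

variable (P : Over S) (φ : ∀ T : Over S, PicF.Cl (PicF.XT f T) → (T ⟶ P))
  (hP : AbDual.IsRelPicK Scheme.fppfPrecoverage f P φ)

include hP in
/-- two invertible modules defining the same point of the Picard scheme have the same degree -/
theorem deg_wd (hdim : ∀ s : S, topologicalKrullDim ↥(f.fiber s) = 1)
    (T₁ T₂ : Over S) (L₁ : (PicF.XT f T₁).Modules) (L₂ : (PicF.XT f T₂).Modules)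
    (h₁ : PicF.IsInvertible L₁) (h₂ : PicF.IsInvertible L₂) (t₁ : T₁.left) (t₂ : T₂.left)
    (he : (φ T₁ (PicF.cl L₁)).left.base t₁ = (φ T₂ (PicF.cl L₂)).left.base t₂) :
    degAt (PicF.XTproj f T₁) L₁ t₁ = degAt (PicF.XTproj f T₂) L₂ t₂ := by
  obtain ⟨a₁, ha₁⟩ : ∃ a, a = φ T₁ (PicF.cl L₁) := ⟨_, rfl⟩
  obtain ⟨a₂, ha₂⟩ : ∃ a, a = φ T₂ (PicF.cl L₂) := ⟨_, rfl⟩
  rw [← ha₁, ← ha₂] at he
  haveI q₁ : L₁.IsQuasicoherent := Groth.Agent.Lead.FLF.isQuasicoherent_of_isFinLocFree L₁
    (Groth.Agent.Helper1.InvInv2.isFinLocFree_of_isInvertible h₁)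
  haveI q₂ : L₂.IsQuasicoherent := Groth.Agent.Lead.FLF.isQuasicoherent_of_isFinLocFree L₂
    (Groth.Agent.Helper1.InvInv2.isFinLocFree_of_isInvertible h₂)
  obtain ⟨t₃, ht₃1, ht₃2⟩ := Scheme.Pullback.exists_preimage_pullback
    (f := a₁.left) (g := a₂.left) t₁ t₂ he
  let T₃ : Over S := Over.mk (pullback.fst a₁.left a₂.left ≫ T₁.hom)
  let π₁ : T₃ ⟶ T₁ := Over.homMk (pullback.fst a₁.left a₂.left) rfl
  have hw : pullback.snd a₁.left a₂.left ≫ T₂.hom = pullback.fst a₁.left a₂.left ≫ T₁.hom :=
    calc pullback.snd a₁.left a₂.left ≫ T₂.hom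
        = pullback.snd a₁.left a₂.left ≫ (a₂.left ≫ P.hom) := by rw [Over.w a₂]
      _ = (pullback.snd a₁.left a₂.left ≫ a₂.left) ≫ P.hom := (Category.assoc _ _ _).symm
      _ = (pullback.fst a₁.left a₂.left ≫ a₁.left) ≫ P.hom := by rw [pullback.condition]
      _ = pullback.fst a₁.left a₂.left ≫ (a₁.left ≫ P.hom) := Category.assoc _ _ _
      _ = pullback.fst a₁.left a₂.left ≫ T₁.hom := by rw [Over.w a₁]
  let π₂ : T₃ ⟶ T₂ := Over.homMk (pullback.snd a₁.left a₂.left) hw
  have hπ : π₁ ≫ a₁ = π₂ ≫ a₂ := by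
    apply Over.OverMorphism.ext
    rw [Over.comp_left, Over.comp_left]
    exact pullback.condition
  have hM₁ : PicF.IsInvertible ((Scheme.Modules.pullback (PicF.XTmap f π₁)).obj L₁) :=
    Groth.Agent.Helper1.PullGen.isInvertible_pullback _ h₁
  have hM₂ : PicF.IsInvertible ((Scheme.Modules.pullback (PicF.XTmap f π₂)).obj L₂) :=
    Groth.Agent.Helper1.PullGen.isInvertible_pullback _ h₂
  haveI qM₁ : ((Scheme.Modules.pullback (PicF.XTmap f π₁)).obj L₁).IsQuasicoherent :=
    Groth.Agent.Lead.PB.isQuasicoherent_pullback _ _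
  haveI qM₂ : ((Scheme.Modules.pullback (PicF.XTmap f π₂)).obj L₂).IsQuasicoherent :=
    Groth.Agent.Lead.PB.isQuasicoherent_pullback _ _
  have hn₁ : φ T₃ (PicF.cl ((Scheme.Modules.pullback (PicF.XTmap f π₁)).obj L₁)) = π₁ ≫ a₁ := by
    rw [ha₁]
    exact hP.natural T₁ T₃ π₁ (PicF.cl L₁) ⟨L₁, rfl, h₁⟩
  have hn₂ : φ T₃ (PicF.cl ((Scheme.Modules.pullback (PicF.XTmap f π₂)).obj L₂)) = π₂ ≫ a₂ := by
    rw [ha₂]
    exact hP.natural T₂ T₃ π₂ (PicF.cl L₂) ⟨L₂, rfl, h₂⟩
  have hφ : φ T₃ (PicF.cl ((Scheme.Modules.pullback (PicF.XTmap f π₁)).obj L₁)) =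
      φ T₃ (PicF.cl ((Scheme.Modules.pullback (PicF.XTmap f π₂)).obj L₂)) := by
    rw [hn₁, hn₂, hπ]
  obtain ⟨R, hR, hloc⟩ := hP.locallyInjective T₃ _ _ ⟨_, rfl, hM₁⟩ ⟨_, rfl, hM₂⟩ hφ
  obtain ⟨U, u, hu, x, hx⟩ := Groth.Agent.Helper9.FppfCov.exists_mem_range
    (P := @Flat ⊓ @LocallyOfFinitePresentation) hR t₃
  have hcl := hloc u hu
  obtain ⟨ε⟩ := nonempty_iso_of_cl_eq
    (L := (Scheme.Modules.pullback (PicF.XTmap f (AbDual.ovrHom T₃ u))).obj
      ((Scheme.Modules.pullback (PicF.XTmap f π₁)).obj L₁))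
    (L' := (Scheme.Modules.pullback (PicF.XTmap f (AbDual.ovrHom T₃ u))).obj
      ((Scheme.Modules.pullback (PicF.XTmap f π₂)).obj L₂)) hcl
  have e1 : degAt (PicF.XTproj f T₃) ((Scheme.Modules.pullback (PicF.XTmap f π₁)).obj L₁) t₃ =
      degAt (PicF.XTproj f T₁) L₁ t₁ :=
    (degAt_XTmap f hdim π₁ L₁ t₃).trans (congrArg (degAt (PicF.XTproj f T₁) L₁) ht₃1)
  have e2 : degAt (PicF.XTproj f T₃) ((Scheme.Modules.pullback (PicF.XTmap f π₂)).obj L₂) t₃ =
      degAt (PicF.XTproj f T₂) L₂ t₂ :=
    (degAt_XTmap f hdim π₂ L₂ t₃).trans (congrArg (degAt (PicF.XTproj f T₂) L₂) ht₃2)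
  have e3 : degAt (PicF.XTproj f (AbDual.ovr T₃ u))
      ((Scheme.Modules.pullback (PicF.XTmap f (AbDual.ovrHom T₃ u))).obj
        ((Scheme.Modules.pullback (PicF.XTmap f π₁)).obj L₁)) x =
      degAt (PicF.XTproj f T₃) ((Scheme.Modules.pullback (PicF.XTmap f π₁)).obj L₁) t₃ :=
    (degAt_XTmap f hdim (AbDual.ovrHom T₃ u) _ x).trans
      (congrArg (degAt (PicF.XTproj f T₃)
        ((Scheme.Modules.pullback (PicF.XTmap f π₁)).obj L₁)) hx)
  have e4 : degAt (PicF.XTproj f (AbDual.ovr T₃ u))
      ((Scheme.Modules.pullback (PicF.XTmap f (AbDual.ovrHom T₃ u))).obj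
        ((Scheme.Modules.pullback (PicF.XTmap f π₂)).obj L₂)) x =
      degAt (PicF.XTproj f T₃) ((Scheme.Modules.pullback (PicF.XTmap f π₂)).obj L₂) t₃ :=
    (degAt_XTmap f hdim (AbDual.ovrHom T₃ u) _ x).trans
      (congrArg (degAt (PicF.XTproj f T₃)
        ((Scheme.Modules.pullback (PicF.XTmap f π₂)).obj L₂)) hx)
  rw [← e1, ← e2, ← e3, ← e4]
  exact degAt_congr _ ε x

include hP in
/-- **the degree function on the Picard scheme of a family of curves** -/
theorem main_deg (hdim : ∀ s : S, topologicalKrullDim ↥(f.fiber s) = 1) :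
    ∃ d : ↥P.left → ℤ, IsLocallyConstant d ∧
      ∀ (T : Over S) (L : (PicF.XT f T).Modules), PicF.IsInvertible L → ∀ t : T.left,
        d ((φ T (PicF.cl L)).left.base t) = degAt (PicF.XTproj f T) L t := by
  have hex : ∀ p₀ : P.left, ∃ (T : Over S) (L : (PicF.XT f T).Modules) (t : T.left),
      PicF.IsInvertible L ∧ (φ T (PicF.cl L)).left.base t = p₀ ∧
        IsOpenMap (φ T (PicF.cl L)).left.base := by
    intro p₀
    obtain ⟨R, hR, hloc⟩ := hP.locallySurjective P (𝟙 P)
    obtain ⟨U, u, hu, x, hx⟩ := Groth.Agent.Helper9.FppfCov.exists_mem_range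
      (P := @Flat ⊓ @LocallyOfFinitePresentation) hR p₀
    obtain ⟨c, ⟨L, hLc, hL⟩, hc⟩ := hloc u hu
    subst hLc
    have hleft : (φ (AbDual.ovr P u) (PicF.cl L)).left = u := by
      rw [hc, Category.comp_id]
      rfl
    refine ⟨AbDual.ovr P u, L, x, hL, ?_, ?_⟩
    · rw [hleft]
      exact hx
    · rw [hleft]
      exact Groth.Agent.Helper9.FppfCov.fppf_isOpenMap hR hu
  choose T L t hL ht hopen using hex
  have key : ∀ (T' : Over S) (L' : (PicF.XT f T').Modules), PicF.IsInvertible L' →
      ∀ t' : T'.left,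
        degAt (PicF.XTproj f (T ((φ T' (PicF.cl L')).left.base t')))
          (L ((φ T' (PicF.cl L')).left.base t')) (t ((φ T' (PicF.cl L')).left.base t')) =
        degAt (PicF.XTproj f T') L' t' := by
    intro T' L' hL' t'
    exact deg_wd f P φ hP hdim _ _ _ _ (hL _) hL' _ _ (ht _)
  refine ⟨fun p₀ => degAt (PicF.XTproj f (T p₀)) (L p₀) (t p₀), ?_, key⟩
  rw [IsLocallyConstant.iff_exists_open]
  intro p₀
  have hlc := isLocallyConstant_degAt (PicF.XTproj f (T p₀)) (dim_fiber_XTproj f hdim (T p₀))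
    (L p₀) (hL p₀)
  rw [IsLocallyConstant.iff_exists_open] at hlc
  obtain ⟨W, hW, htW, hconst⟩ := hlc (t p₀)
  refine ⟨(φ (T p₀) (PicF.cl (L p₀))).left.base '' W, hopen p₀ W hW, ⟨t p₀, htW, ht p₀⟩, ?_⟩
  rintro _ ⟨w, hw, rfl⟩
  exact (key (T p₀) (L p₀) (hL p₀) w).trans (hconst w hw)

end Pic

end Groth.Agent.Helper7.AlgTriv
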